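import Groth.Agent.AlgSpWA.FTSub
import Groth.Agent.AlgSpWA.FPColimAffine
import Groth.Agent.AlgSpDec.EtPullRestrict
import Groth.Agent.AlgSpLib.EtaleSmoothLocal
import Groth.Agent.QCPush13.Main
import Groth.Agent.QCPull13.Space
import Groth.Agent.AlgSpWA.ChartColim
import Groth.Agent.AlgSpPts.OpenSub

/-!
# Extending submodules of finite type from a quasi-compact open subspace
-/

set_option autoImplicit false
set_option linter.style.haveILetI false
set_option backward.isDefEq.respectTransparency false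
set_option backward.isDefEq.respectTransparency.types false
set_option synthInstance.maxHeartbeats 400000

noncomputable section

universe u

open CategoryTheory CategoryTheory.Limits AlgebraicGeometry Opposite AlgSp TensorProduct
open Groth.Agent.QCart13 Groth.Agent.AlgSpWA Groth.Agent.AlgSpDec Groth.Agent.AlgSpLib

namespace Groth.Agent.Extend13

/-- The largest extension of a subobject along a localisation. -/
theorem exists_largest_extension {C : Type*} [Category C] [Abelian C] {D : Type*} [Category D] [Abelian D]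
    {L : C ⥤ D} {R : D ⥤ C} (adj : L ⊣ R) [PreservesFiniteLimits L] (hc : ∀ Y, IsIso (adj.counit.app Y))
    (F : C) (G : D) (g : G ⟶ L.obj F) [Mono g] :
    ∃ (l : G ⟶ L.obj (kernel (adj.unit.app F ≫ cokernel.π (R.map g)))) (_ : IsIso l),
      l ≫ L.map (kernel.ι _) = g := by
  let p := cokernel.π (R.map g)
  let ψ := adj.unit.app F ≫ p
  haveI := hc G
  haveI := hc (L.obj F)
  haveI : L.IsLeftAdjoint := adj.isLeftAdjoint
  haveI : R.IsRightAdjoint := adj.isRightAdjoint
  haveI : L.PreservesZeroMorphisms := inferInstance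
  have hu : L.map (adj.unit.app F) = inv (adj.counit.app (L.obj F)) :=
    (cancel_mono (adj.counit.app (L.obj F))).1 (by rw [IsIso.inv_hom_id]; exact adj.left_triangle_components F)
  have hz : g ≫ L.map ψ = 0 := by
    have h1 : g ≫ inv (adj.counit.app (L.obj F)) = inv (adj.counit.app G) ≫ L.map (R.map g) := by
      rw [IsIso.eq_inv_comp, ← Category.assoc, IsIso.comp_inv_eq]
      exact (adj.counit.naturality g).symm
    rw [Functor.map_comp, hu, ← Category.assoc, h1, Category.assoc, ← Functor.map_comp, cokernel.condition,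
      Functor.map_zero, comp_zero]
  let hk := isLimitForkMapOfIsLimit' L (kernel.condition ψ) (kernelIsKernel ψ)
  obtain ⟨l, hl⟩ := KernelFork.IsLimit.lift' hk g hz
  have hl' : l ≫ L.map (kernel.ι ψ) = g := hl
  haveI : Mono (R.map g) := inferInstance
  have hk0 : (kernel.ι ψ ≫ adj.unit.app F) ≫ p = 0 := by rw [Category.assoc]; exact kernel.condition ψ
  let m := Abelian.monoLift (R.map g) (kernel.ι ψ ≫ adj.unit.app F) hk0
  have hm : m ≫ R.map g = kernel.ι ψ ≫ adj.unit.app F := Abelian.monoLift_comp _ _ _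
  let h := (adj.homEquiv _ _).symm m
  have hh : h ≫ g = L.map (kernel.ι ψ) := by
    refine (adj.homEquiv _ _).injective ?_
    rw [adj.homEquiv_naturality_right, Equiv.apply_symm_apply, hm, Adjunction.homEquiv_unit]
    exact adj.unit.naturality (kernel.ι ψ)
  refine ⟨l, ⟨h, (cancel_mono g).1 ?_, (cancel_mono (L.map (kernel.ι ψ))).1 ?_⟩, hl'⟩
  · rw [Category.assoc, hh, hl', Category.id_comp]
  · rw [Category.assoc, hl', hh, Category.id_comp]

/-- Transfer of a compatibility along an isomorphism of functors. -/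
theorem transfer {C : Type*} [Category C] {D : Type*} [Category D] {R P : C ⥤ D} (θ : R ≅ P) {F K A : C} {G : D}
    (g : G ⟶ P.obj F) (l : G ⟶ R.obj K) [IsIso l] (ι : K ⟶ F) (hl : l ≫ R.map ι = g ≫ θ.inv.app F) (a : A ⟶ K)
    [IsIso (R.map a)] :
    ((θ.app A).symm ≪≫ asIso (R.map a) ≪≫ (asIso l).symm).hom ≫ g = P.map (a ≫ ι) := by
  have h1 : R.map ι = inv l ≫ g ≫ θ.inv.app F := by rw [IsIso.eq_inv_comp, hl]
  have h2 : g = (g ≫ θ.inv.app F) ≫ θ.hom.app F := by simp
  simp only [Iso.trans_hom, Iso.symm_hom, Iso.app_inv, asIso_hom, asIso_inv, Category.assoc]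
  rw [h2, ← Category.assoc (inv l), ← h1, ← Functor.map_comp_assoc, θ.hom.naturality, Iso.inv_hom_id_app_assoc]

section Rep

variable {S : Scheme.{u}} {U X : Sp S} {j : U ⟶ X} (hr : Representable j) (he : IsEtaleMor j)

/-- Restriction of modules along a representable etale morphism. -/
def restr : ModEt X ⥤ ModEt U :=
  haveI := PostcompSite.isContinuous j he
  SheafOfModules.pushforward.{u + 1} (EtPullRestrict.φ he)

/-- Restriction is left adjoint to the direct image. -/
def radj : restr he ⊣ pushModEt hr := EtPullRestrict.modAdj hr he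

theorem unit_fst_snd (E : EtOver U) : (yon S).map ((EtPullRestrict.adj hr he).unit.app E).hom.left ≫ hr.fst (E.obj.hom ≫ j) = E.obj.hom ∧
   ((EtPullRestrict.adj hr he).unit.app E).hom.left ≫ hr.snd (E.obj.hom ≫ j) = 𝟙 E.obj.left := by
  constructor
  · exact hr.lift_fst _ _ _
  · exact hr.lift_snd _ _ _

theorem isIso_adj_unit [Mono j] (E : EtOver U) : IsIso ((EtPullRestrict.adj hr he).unit.app E) := by
  let V := (EtOver.postcomp j he).obj E
  have hk : (yon S).map (hr.snd (E.obj.hom ≫ j)) ≫ E.obj.hom = hr.fst (E.obj.hom ≫ j) := (cancel_mono j).1 (by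
    rw [Category.assoc]
    exact (hr.w _).symm)
  let k : (EtOver.bc hr).obj V ⟶ E := EtOver.homMk (hr.snd (E.obj.hom ≫ j)) hk
  obtain ⟨h1, h2⟩ := unit_fst_snd hr he E
  refine ⟨k, EtOver.hom_ext _ _ ?_, EtOver.hom_ext _ _ ?_⟩
  · exact h2
  · show hr.snd (E.obj.hom ≫ j) ≫ ((EtPullRestrict.adj hr he).unit.app E).hom.left = 𝟙 (hr.pullback (E.obj.hom ≫ j))
    refine hr.hom_ext ?_ ?_
    · rw [Functor.map_comp, Category.assoc]
      exact ((congrArg (_ ≫ ·) h1).trans hk).trans ((congrArg (· ≫ _) ((yon S).map_id _)).trans (Category.id_comp _)).symm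
    · rw [Category.assoc]
      exact ((congrArg (_ ≫ ·) h2).trans (Category.comp_id _)).trans (Category.id_comp _).symm

theorem isIso_counit [Mono j] (M : ModEt U) : IsIso ((radj hr he).counit.app M) := by
  haveI := PostcompSite.isContinuous j he
  suffices IsIso ((SheafOfModules.forget _ ⋙ PresheafOfModules.toPresheaf _).map ((radj hr he).counit.app M)) from
    isIso_of_reflects_iso _ (SheafOfModules.forget _ ⋙ PresheafOfModules.toPresheaf _)
  haveI : ∀ E, IsIso (((SheafOfModules.forget _ ⋙ PresheafOfModules.toPresheaf _).map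
      ((radj hr he).counit.app M)).app E) := fun E => by
    haveI := isIso_adj_unit hr he E.unop
    exact inferInstanceAs (IsIso (M.val.presheaf.map ((EtPullRestrict.adj hr he).unit.app E.unop).op))
  exact NatIso.isIso_of_isIso_app _

theorem preservesFiniteLimits : PreservesFiniteLimits (restr he) := EtPullRestrict.preservesFiniteLimits_restrict he

theorem isQuasicoherent_restr [QuasiSeparatedSpace ↥S] (hX : IsQuasiCompactSp X) (M : ModEt X) [M.IsQuasicoherent]
    [(SheafOfModules.pushforward.{u + 1} (bcRingHom hr)).IsRightAdjoint] :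
    ((restr he).obj M).IsQuasicoherent := by
  obtain ⟨T, a, hT, ha, has⟩ := exists_affine_atlas hX
  haveI := QCPull13.isQuasicoherent_pullModEt hr a ha has M ‹_›
  exact (SheafOfModules.isQuasicoherent (OEtRing U)).prop_of_iso
    (((radj hr he).leftAdjointUniq (pullPushAdjModEt hr)).app M).symm ‹_›

theorem exists_generators {Y : Sp S} (M : ModEt Y) {E : EtOver Y} (_ : Module.Finite (Fn E) (sectModEt M E)) :
    ∃ (n : ℕ) (s : Fin n → sectModEt M E), Submodule.span (Fn E) (Set.range s) = ⊤ := by
  exact Submodule.fg_iff_exists_fin_generating_family.1 (Module.Finite.fg_top (R := Fn E) (M := sectModEt M E))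

theorem finite_of_isIso {Y : Sp S} {A B : ModEt Y} (l : A ⟶ B) [IsIso l] {E : EtOver Y}
    (_ : Module.Finite (Fn E) (sectModEt A E)) : Module.Finite (Fn E) (sectModEt B E) :=
  Module.Finite.of_surjective (appL l E) fun y => ⟨appL (inv l) E y, by
    rw [appL_appL, IsIso.inv_hom_id]; rfl⟩

/-- A monomorphism of quasi-coherent modules which hits generators of the sections over an atlas is invertible. -/
theorem isIso_of_generators {Y : Sp S} {A B : ModEt Y} [A.IsQuasicoherent] [B.IsQuasicoherent] (φ : A ⟶ B) [Mono φ]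
    {E : EtOver Y} (hE : Aff E) (hcov : ∀ x : Points Y, ∃ u, Points.ofPt E.obj.hom u = x) {n : ℕ}
    (s : Fin n → sectModEt B E) (hs : Submodule.span (Fn E) (Set.range s) = ⊤)
    (h : ∀ k, ∃ t, appL φ E t = s k) : IsIso φ := by
  have hgen : ∀ x : sectModEt B E, x ∈ LinearMap.range (appL φ E) := by
    intro x
    have hx : x ∈ Submodule.span (Fn E) (Set.range s) := hs ▸ Submodule.mem_top
    refine Submodule.span_le.2 ?_ hx
    rintro _ ⟨k, rfl⟩
    exact h k
  have hsur : ∀ (V : EtOver Y), Aff V → ∀ x : sectModEt B V, ∃ t, appL φ V t = x := by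
    intro V hV x
    obtain ⟨c, hc⟩ := QCart13.exists_cov hV (R :=
      { arrows := fun W _ => Nonempty (W ⟶ E)
        downward_closed := fun ⟨g⟩ k => ⟨k ≫ g⟩ }) (mem_etTop_of_exists _ fun e => by
      obtain ⟨v, hv⟩ := hcov (Points.ofPt V.obj.hom e)
      obtain ⟨W, -, g, g', w, hw, -⟩ := exists_common V E hv.symm
      exact ⟨W, g, ⟨g'⟩, w, hw⟩)
    refine FPColim.mem_range_of_atlas φ hV c x fun k => ?_
    obtain ⟨g⟩ := hc k
    obtain ⟨z, hz⟩ := (bijective_bcMor (cart_of_isQuasicoherent B hE) (Over.mk g) (c.aff k)).2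
      (res B (c.T k).hom x)
    rw [← hz]
    clear hz
    induction z using TensorProduct.induction_on with
    | zero => exact ⟨0, by rw [map_zero, map_zero]⟩
    | add p q hp hq =>
      obtain ⟨t, ht⟩ := hp
      obtain ⟨t', ht'⟩ := hq
      exact ⟨t + t', by rw [map_add, map_add, ht, ht']⟩
    | tmul r m =>
      obtain ⟨t, ht⟩ := hgen m
      refine ⟨(show Fn (c.T k).left from r) • res _ g t, ?_⟩
      rw [map_smul, ← res_appL, ht, LinearMap.liftBaseChange_tmul]
      rfl
  haveI : IsIso ((SheafOfModules.toSheaf.{u + 1} (OEtRing Y)).map φ) :=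
    ChartColim.isIso_of_bijective_affine _ fun V hV => ⟨injective_appL φ V, fun x => hsur V hV x⟩
  haveI : IsIso ((SheafOfModules.forget (OEtRing Y) ⋙ PresheafOfModules.toPresheaf _).map φ) :=
    inferInstanceAs (IsIso ((sheafToPresheaf (etTop Y) AddCommGrpCat.{u + 1}).map
      ((SheafOfModules.toSheaf.{u + 1} (OEtRing Y)).map φ)))
  exact isIso_of_reflects_iso φ (SheafOfModules.forget (OEtRing Y) ⋙ PresheafOfModules.toPresheaf _)

end Rep

section Spaces

variable {S : Scheme.{u}} {U X : Space S} {j : U.obj ⟶ X.obj} (hr : Representable j) (he : IsEtaleMor j)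
  [QuasiSeparatedSpace ↥S] [(SheafOfModules.pushforward.{u + 1} (bcRingHom hr)).IsRightAdjoint]

include hr in
/-- A module whose restriction is of finite type has a finite type submodule with the same restriction. -/
theorem exists_ft_sub_same_restr (hqc : IsQuasiCompactSp X.obj) (hqs : IsQuasiSeparatedSp X.obj)
    (hU : IsQuasiCompactSp U.obj) (M : ModEt X.obj) [M.IsQuasicoherent]
    (hfin : ∀ E : EtOver U.obj, Aff E → Module.Finite (Fn E) (sectModEt ((restr he).obj M) E)) :
    ∃ (N : Subobject M), (Subobject.underlying.obj N).IsQuasicoherent ∧ (Subobject.underlying.obj N).IsFiniteType ∧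
      IsIso ((restr he).map N.arrow) := by
  classical
  haveI := PostcompSite.isContinuous j he
  obtain ⟨T₀, a, hT₀, ha, has⟩ := exists_affine_atlas hU
  let E' : EtOver U.obj := EtOver.mk a ha
  have hE' : Aff E' := hT₀
  have hcovU : ∀ x : Points U.obj, ∃ u, Points.ofPt E'.obj.hom u = x :=
    fun x => AlgSpLib.surjective_ofPt has x
  obtain ⟨T₁, b, hT₁, hb, hbs⟩ := exists_affine_atlas hqc
  let B : EtOver X.obj := EtOver.mk b hb
  have hB : Aff B := hT₁
  have hcovX : ∀ x : Points X.obj, ∃ u, Points.ofPt B.obj.hom u = x :=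
    fun x => AlgSpLib.surjective_ofPt hbs x
  let E₀ : EtOver X.obj := (EtOver.postcomp j he).obj E'
  have hE₀ : Aff E₀ := hT₀
  haveI : ((restr he).obj M).IsQuasicoherent := isQuasicoherent_restr hr he hqc M
  obtain ⟨n, s, hs⟩ := exists_generators ((restr he).obj M) (hfin E' hE')
  obtain ⟨Sg, hSg⟩ := FinSys.hasSys X hqc hqs M (ULift.{u + 1} (Fin n)) inferInstance (fun _ => E₀) (fun _ => hE₀)
    (fun _ => SerreGen.top' E₀) (fun k => (show sectModEt M E₀ from s k.down))
  obtain ⟨N, hNq, hNf, hN⟩ := FTSub.exists_subobject hB hcovX M Sg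
  refine ⟨N, hNq, hNf, ?_⟩
  haveI := hNq
  haveI : ((restr he).obj (Subobject.underlying.obj N)).IsQuasicoherent := isQuasicoherent_restr hr he hqc _
  haveI := preservesFiniteLimits he
  haveI : Mono ((restr he).map N.arrow) := Functor.map_mono _ _
  exact isIso_of_generators ((restr he).map N.arrow) hE' hcovU s hs fun k => hN E₀ hE₀ _ (hSg ⟨k⟩)

set_option maxHeartbeats 4000000 in
/-- A finite type submodule on a quasi-compact open subspace extends. -/
theorem exists_extension (hj : RepWith @IsOpenImmersion j) (hqc : IsQuasiCompactSp X.obj)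
    (hqs : IsQuasiSeparatedSp X.obj) (hU : IsQuasiCompactSp U.obj) (F : ModEt X.obj) [F.IsQuasicoherent]
    (G : ModEt U.obj) (g : G ⟶ (pullModEt hr).obj F) [Mono g] [G.IsQuasicoherent] [G.IsFiniteType] :
    ∃ (G' : ModEt X.obj) (g' : G' ⟶ F), Mono g' ∧ G'.IsQuasicoherent ∧ G'.IsFiniteType ∧
      ∃ e : (pullModEt hr).obj G' ≅ G, e.hom ≫ g = (pullModEt hr).map g' := by
  classical
  have he : IsEtaleMor j := AlgSpLib.isEtaleMor_of_repWith_isOpenImmersion hj
  haveI := mono_of_openImm hj
  have hq : IsQuasiCompactMor j := AlgSpPts.isQuasiCompactMor_of_qc_qs U.property X.property hU hqs j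
  have hs : IsQuasiSeparatedMor j := repWith_of_isIso _ (pullback.diagonal j)
  let θ := (radj hr he).leftAdjointUniq (pullPushAdjModEt hr)
  let g₁ : G ⟶ (restr he).obj F := g ≫ θ.inv.app F
  haveI : Mono g₁ := mono_comp _ _
  haveI := preservesFiniteLimits he
  obtain ⟨l, hl, hlg⟩ := exists_largest_extension (radj hr he) (isIso_counit hr he) F G g₁
  haveI : ((restr he).obj F).IsQuasicoherent := isQuasicoherent_restr hr he hqc F
  haveI : ((pushModEt hr).obj ((restr he).obj F)).IsQuasicoherent := QCPush13.isQuasicoherent_push _ hq hs hr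
  haveI : ((pushModEt hr).obj G).IsQuasicoherent := QCPush13.isQuasicoherent_push _ hq hs hr
  have hC : (cokernel ((pushModEt hr).map g₁)).IsQuasicoherent :=
    ((S10240.result X).2.1 _ _ ((pushModEt hr).map g₁) inferInstance inferInstance).2
  let ψ := (radj hr he).unit.app F ≫ cokernel.π ((pushModEt hr).map g₁)
  haveI : (kernel ψ).IsQuasicoherent := ((S10240.result X).2.1 _ _ ψ ‹F.IsQuasicoherent› hC).1
  obtain ⟨N, hNq, hNf, hi⟩ := exists_ft_sub_same_restr hr he hqc hqs hU (kernel ψ) fun E hE =>
    finite_of_isIso l (finite_sect G hE)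
  exact ⟨Subobject.underlying.obj N, N.arrow ≫ kernel.ι ψ, mono_comp _ _, hNq, hNf,
    (θ.app _).symm ≪≫ asIso ((restr he).map N.arrow) ≪≫ (asIso l).symm,
    transfer θ g l (kernel.ι ψ) hlg N.arrow⟩

end Spaces

end Groth.Agent.Extend13
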